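import Mathlib

/-!
# Project O983 (S0983, 3u): a non-abelian simple group of order in `(3640, 6232]` has order 4080, 5616, 6048 or 6072

Leader: helper13.  See `PLAN.md` and `Skel.lean.txt` in this folder.
-/

set_option autoImplicit false

namespace Cfsg.Agent.Lib.Helper13.O983

universe u

/-- no non-abelian simple group (in the universe `u`) has order `n` -/
def NoSimple (n : ℕ) : Prop :=
  ∀ (G : Type u) [Group G] [Fintype G] [IsSimpleGroup G], ¬ IsMulCommutative G → Nat.card G ≠ n

/-- the Sylow check: every possible number `k p + 1 > 1` of Sylow `p`-subgroups (a divisor of `m`) is `≤ 39` and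
`n ∤ (k p + 1)! / 2` (so the group cannot embed in the alternating group of that degree) -/
def ChkS (n p m : ℕ) : Prop :=
  ∀ k < m / p + 1, 1 ≤ k → (k * p + 1) ∣ m → (k * p + 1 ≤ 39 ∧ ¬ n ∣ (k * p + 1).factorial / 2)

instance (n p m : ℕ) : Decidable (ChkS n p m) := by unfold ChkS; infer_instance

/-- the transfer check (`p ∥ n = p m`): every possible number `d = k p + 1 > 1` of Sylow `p`-subgroups either fails the
embedding test or has `gcd (p - 1, m / d) = 1` (so `N_G(P) = C_G(P)`, Burnside) -/
def ChkT (n p m : ℕ) : Prop :=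
  ∀ k < m / p + 1, 1 ≤ k → (k * p + 1) ∣ m →
    ((k * p + 1 ≤ 39 ∧ ¬ n ∣ (k * p + 1).factorial / 2) ∨ Nat.gcd (p - 1) (m / (k * p + 1)) = 1)

instance (n p m : ℕ) : Decidable (ChkT n p m) := by unfold ChkT; infer_instance

end Cfsg.Agent.Lib.Helper13.O983
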